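import Groth.Agent.WeylDPLib.ConicData

/-!
# Pairs of conic classes
-/

set_option autoImplicit false

open W4c3severiratdp

namespace WeylDPLib

/-- The data of a certified orbit computation for pairs of conics. -/
structure ConicCert (δ : ℕ) where
  base : ℕ
  bases : List ℕ
  all : Tree
  stab : Tree
  all_ok : ok δ [] [base] all = true
  all_enum : enum δ (lConic δ) all = true
  stab_ok : ok δ [base] bases stab = true
  stab_enum : enum δ (lConic δ) stab = true
  all_card : all.toList.length = {v : DP δ | IsConic v}.ncard
  stab_card : stab.toList.length = {v : DP δ | IsConic v}.ncard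
  le_eight : δ ≤ 8

theorem ConicCert.normalise {δ : ℕ} (C : ConicCert δ) (v₁ v₂ : DP δ) (h₁ : IsConic v₁) (h₂ : IsConic v₂) :
    ∃ g : DP δ ≃ₗ[ℤ] DP δ, IsWeyl g ∧ g v₁ = vec δ (dec δ C.base) ∧
      ∃ b ∈ C.bases, g v₂ = vec δ (dec δ b) ∧
        form (vec δ (dec δ C.base)) (vec δ (dec δ b)) = form v₁ v₂ := by
  have hfin : {v : DP δ | IsConic v}.Finite := finite_conic δ C.le_eight
  have hP : ∀ c, lConic δ (dec δ c) = true → vec δ (dec δ c) ∈ {v : DP δ | IsConic v} := fun c hc =>
    (lConic_iff (length_dec δ c)).mp hc
  obtain ⟨n, hn, rfl⟩ := mem_of_enum C.all_enum _ hP hfin C.all_card.symm v₁ h₁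
  obtain ⟨g, hg, -, b, hb, hgb⟩ := reach C.all_ok n hn
  obtain rfl : b = C.base := by simpa using hb
  have hc : IsConic (g v₂) := ⟨by rw [hg.1]; exact h₂.1, by rw [← hg.2, hg.1]; exact h₂.2⟩
  obtain ⟨m, hm, hme⟩ := mem_of_enum C.stab_enum _ hP hfin C.stab_card.symm (g v₂) hc
  obtain ⟨k, hk, hkf, c, hcb, hkc⟩ := reach C.stab_ok m hm
  refine ⟨g.trans k, isWeyl_trans hg hk, ?_, c, hcb, ?_, ?_⟩
  · rw [LinearEquiv.trans_apply, hgb]; exact hkf _ (List.mem_cons_self ..)
  · rw [LinearEquiv.trans_apply, ← hme, hkc]
  · rw [← hkc, ← hkf C.base (List.mem_cons_self ..), hk.1, hme, ← hgb, hg.1]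

set_option maxRecDepth 100000 in
/-- The certificate for `δ = 2`. -/
def cert2 : ConicCert 2 where
  base := 16945
  bases := [16945, 17937]
  all := conic2
  stab := conicStab2
  all_ok := by decide +kernel
  all_enum := by decide +kernel
  stab_ok := by decide +kernel
  stab_enum := by decide +kernel
  all_card := by rw [ConicLib.ncard_conic _ (by norm_num)]; decide +kernel
  stab_card := by rw [ConicLib.ncard_conic _ (by norm_num)]; decide +kernel
  le_eight := by norm_num

set_option maxRecDepth 100000 in
/-- The certificate for `δ = 3`. -/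
def cert3 : ConicCert 3 where
  base := 541233
  bases := [541233, 542225]
  all := conic3
  stab := conicStab3
  all_ok := by decide +kernel
  all_enum := by decide +kernel
  stab_ok := by decide +kernel
  stab_enum := by decide +kernel
  all_card := by rw [ConicLib.ncard_conic _ (by norm_num)]; decide +kernel
  stab_card := by rw [ConicLib.ncard_conic _ (by norm_num)]; decide +kernel
  le_eight := by norm_num

set_option maxRecDepth 100000 in
/-- The certificate for `δ = 4`. -/
def cert4 : ConicCert 4 where
  base := 17318449
  bases := [17318449, 17319441]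
  all := conic4
  stab := conicStab4
  all_ok := by decide +kernel
  all_enum := by decide +kernel
  stab_ok := by decide +kernel
  stab_enum := by decide +kernel
  all_card := by rw [ConicLib.ncard_conic _ (by norm_num)]; decide +kernel
  stab_card := by rw [ConicLib.ncard_conic _ (by norm_num)]; decide +kernel
  le_eight := by norm_num

set_option maxRecDepth 100000 in
/-- The certificate for `δ = 5`. -/
def cert5 : ConicCert 5 where
  base := 554189361
  bases := [554189361, 554190353, 588826130]
  all := conic5
  stab := conicStab5
  all_ok := by decide +kernel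
  all_enum := by decide +kernel
  stab_ok := by decide +kernel
  stab_enum := by decide +kernel
  all_card := by rw [ConicLib.ncard_conic _ (by norm_num)]; decide +kernel
  stab_card := by rw [ConicLib.ncard_conic _ (by norm_num)]; decide +kernel
  le_eight := by norm_num

set_option maxRecDepth 100000 in
/-- The certificate for `δ = 6`. -/
def cert6 : ConicCert 6 where
  base := 17734058545
  bases := [17734058545, 17734059537, 17768695314]
  all := conic6
  stab := conicStab6
  all_ok := by decide +kernel
  all_enum := by decide +kernel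
  stab_ok := by decide +kernel
  stab_enum := by decide +kernel
  all_card := by rw [ConicLib.ncard_conic _ (by norm_num)]; decide +kernel
  stab_card := by rw [ConicLib.ncard_conic _ (by norm_num)]; decide +kernel
  le_eight := by norm_num

set_option maxRecDepth 100000 in
/-- The certificate for `δ = 7`. -/
def cert7 : ConicCert 7 where
  base := 567489872433
  bases := [567489872433, 567489873425, 567524509202, 602957990419, 638426106421]
  all := conic7
  stab := conicStab7
  all_ok := by decide +kernel
  all_enum := by decide +kernel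
  stab_ok := by decide +kernel
  stab_enum := by decide +kernel
  all_card := by rw [ConicLib.ncard_conic _ (by norm_num)]; decide +kernel
  stab_card := by rw [ConicLib.ncard_conic _ (by norm_num)]; decide +kernel
  le_eight := by norm_num

set_option maxRecDepth 100000 in
/-- The certificate for `δ = 8`. -/
def cert8 : ConicCert 8 where
  base := 18159675916849
  bases := [18159675916849, 18159675917841, 18159710553618, 18195144034835, 19294656743956, 18230612150837, 19330123778581, 20429670043191, 21564615151160, 22699594895995]
  all := conic8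
  stab := conicStab8
  all_ok := by decide +kernel
  all_enum := by decide +kernel
  stab_ok := by decide +kernel
  stab_enum := by decide +kernel
  all_card := by rw [ConicLib.ncard_conic _ (by norm_num)]; decide +kernel
  stab_card := by rw [ConicLib.ncard_conic _ (by norm_num)]; decide +kernel
  le_eight := by norm_num

/-- The `(base, orbit)` intersection numbers determine the orbit, apart from one value. -/
def sepCheck (δ : ℕ) (b : ℕ) (bs : List ℕ) (skip : ℤ → Bool) : Bool :=
  bs.all fun x => bs.all fun y =>
    x == y || skip (lform (dec δ b) (dec δ x)) || lform (dec δ b) (dec δ x) != lform (dec δ b) (dec δ y)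

theorem ConicCert.transitive {δ : ℕ} (C : ConicCert δ) (skip : ℤ → Bool)
    (hs : sepCheck δ C.base C.bases skip = true) (v₁ v₂ w₁ w₂ : DP δ) (hv₁ : IsConic v₁) (hv₂ : IsConic v₂)
    (hw₁ : IsConic w₁) (hw₂ : IsConic w₂) (heq : form v₁ v₂ = form w₁ w₂) (hskip : skip (form v₁ v₂) = false) :
    ∃ g : DP δ ≃ₗ[ℤ] DP δ, IsWeyl g ∧ g v₁ = w₁ ∧ g v₂ = w₂ := by
  obtain ⟨g, hg, hg1, x, hx, hgx, hfx⟩ := C.normalise v₁ v₂ hv₁ hv₂
  obtain ⟨k, hk, hk1, y, hy, hky, hfy⟩ := C.normalise w₁ w₂ hw₁ hw₂
  obtain rfl : x = y := by
    have := List.all_eq_true.mp (List.all_eq_true.mp hs x hx) y hy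
    rw [lform_eq (length_dec _ _) (length_dec _ _)] at hfx hfy
    rw [hfx, hfy, ← heq, hskip] at this
    simpa using this
  refine ⟨g.trans k.symm, isWeyl_trans hg (isWeyl_symm hk), ?_, ?_⟩
  · rw [LinearEquiv.trans_apply, hg1, ← hk1, LinearEquiv.symm_apply_apply]
  · rw [LinearEquiv.trans_apply, hgx, ← hky, LinearEquiv.symm_apply_apply]

end WeylDPLib
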