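import Groth.Agent.WeylDPLib.ExcData

/-!
# Exceptional classes in the degree one lattice
-/

set_option autoImplicit false

open W4c3severiratdp

namespace WeylDPLib

/-- The standard exceptional class. -/
def L0 : ℕ := 17060164289040

/-- Representatives of the orbits of the stabiliser of `L0`. -/
def excBases : List ℕ := [17060164289040, 18125316178448, 19259187544625, 20359807551027, 21529147034198]

set_option maxRecDepth 100000 in
theorem exc_ok : ok 8 [] [L0] exc = true := by decide +kernel

set_option maxRecDepth 100000 in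
theorem exc_enum : enum 8 (lExc 8) exc = true := by decide +kernel

set_option maxRecDepth 100000 in
theorem excStab_ok : ok 8 [L0] excBases excStab = true := by decide +kernel

set_option maxRecDepth 100000 in
theorem excStab_enum : enum 8 (lExc 8) excStab = true := by decide +kernel

set_option maxRecDepth 100000 in
theorem exc_card : exc.toList.length = {v : DP 8 | IsExc v}.ncard ∧
    excStab.toList.length = {v : DP 8 | IsExc v}.ncard := by
  rw [ncard_exc 8 le_rfl]; decide +kernel

theorem mem_excStab (v : DP 8) (h : IsExc v) : ∃ n ∈ excStab.toList, vec 8 (dec 8 n.1) = v :=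
  mem_of_enum excStab_enum _ (fun c hc => (lExc_iff (length_dec 8 c)).mp hc) (finite_exc 8 le_rfl)
    exc_card.2.symm v h

theorem exc_normalise (L L₁ : DP 8) (hL : IsExc L) (hL₁ : IsExc L₁) :
    ∃ g : DP 8 ≃ₗ[ℤ] DP 8, IsWeyl g ∧ g L = vec 8 (dec 8 L0) ∧ ∃ b ∈ excBases, g L₁ = vec 8 (dec 8 b) ∧
      lform (dec 8 L0) (dec 8 b) = form L L₁ := by
  obtain ⟨n, hn, rfl⟩ := mem_of_enum exc_enum _ (fun c hc => (lExc_iff (length_dec 8 c)).mp hc)
    (finite_exc 8 le_rfl) exc_card.1.symm L hL
  obtain ⟨g, hg, -, b, hb, hgb⟩ := reach exc_ok n hn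
  obtain rfl : b = L0 := by simpa using hb
  have hc : IsExc (g L₁) := ⟨by rw [hg.1]; exact hL₁.1, by rw [← hg.2, hg.1]; exact hL₁.2⟩
  obtain ⟨m, hm, hme⟩ := mem_excStab (g L₁) hc
  obtain ⟨k, hk, hkf, c, hcb, hkc⟩ := reach excStab_ok m hm
  refine ⟨g.trans k, isWeyl_trans hg hk, ?_, c, hcb, ?_, ?_⟩
  · rw [LinearEquiv.trans_apply, hgb]; exact hkf _ (List.mem_cons_self ..)
  · rw [LinearEquiv.trans_apply, ← hme, hkc]
  · rw [← lform_eq (length_dec _ _) (length_dec _ _), ← hkc, ← hkf L0 (List.mem_cons_self ..), hk.1, hme, ← hgb, hg.1]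

/-- The orbit trees of the stabilisers of two classes. -/
def tripleData : List (ℕ × Tree × List ℕ) :=
  [(17060164289040, tripleStab0, [17060164289040, 18125316178448, 19259187544625, 20359807551027, 21529147034198]), (18125316178448, tripleStab1, [17060164289040, 18194035655217, 19327941658163, 20463995144790]), (19259187544625, tripleStab2, [17060164289040, 18160784295442, 19330123778613]), (20359807551027, tripleStab3, [17060164289040, 18229503772211]), (21529147034198, tripleStab4, [17060164289040])]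

/-- The class `L0 - 2K` minus two classes. -/
def third (b c : List ℤ) : List ℤ :=
  List.zipWith (· - ·) (List.zipWith (· - ·) (List.zipWith (fun x y => x - 2 * y) (dec 8 L0) (lcanon 8)) b) c

/-- The check of the orbit trees: valid, and containing all completions. -/
def tripleOk : Bool :=
  tripleData.all fun d => ok 8 [L0, d.1] d.2.2 d.2.1 &&
    excStab.toList.all fun n => !(lExc 8 (third (dec 8 d.1) (dec 8 n.1))) || (d.2.1.find n.1).isSome

set_option maxRecDepth 100000 in
theorem tripleOk_eq : tripleOk = true := by decide +kernel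

set_option maxRecDepth 100000 in
theorem tripleData_fst : tripleData.map (fun d => d.1) = excBases := by decide +kernel

/-- The normal forms of the triples: a word of roots and a permutation. -/
def normData : List ((ℕ × ℕ) × List ℕ × Fin 4 × (Fin 3 → Fin 3)) :=
  [((17060164289040, 17060164289040), [], 0, ![1, 0, 2]),
    ((17060164289040, 18125316178448), [], 1, ![0, 1, 2]),
    ((17060164289040, 19259187544625), [], 2, ![0, 1, 2]),
    ((17060164289040, 20359807551027), [18194035655152, 18124242436591, 18125281541614], 1, ![0, 2, 1]),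
    ((17060164289040, 21529147034198), [], 0, ![2, 0, 1]),
    ((18125316178448, 17060164289040), [], 1, ![1, 0, 2]),
    ((18125316178448, 18194035655217), [], 3, ![0, 1, 2]),
    ((18125316178448, 19327941658163), [18160749658608, 18158567538158], 3, ![0, 2, 1]),
    ((18125316178448, 20463995144790), [], 1, ![2, 0, 1]),
    ((19259187544625, 17060164289040), [], 2, ![1, 0, 2]),
    ((19259187544625, 18160784295442), [18124207799822], 3, ![1, 2, 0]),
    ((19259187544625, 19330123778613), [], 2, ![2, 0, 1]),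
    ((20359807551027, 17060164289040), [18194035655152, 18124242436591, 18125281541614], 1, ![1, 2, 0]),
    ((20359807551027, 18229503772211), [18194035655152, 18124242436591, 18125281541614], 1, ![2, 1, 0]),
    ((21529147034198, 17060164289040), [], 0, ![2, 1, 0])]

/-- The four representatives. -/
def repsL : Fin 4 → Fin 3 → ℕ :=
  ![![17060164289040, 17060164289040, 21529147034198], ![17060164289040, 18125316178448, 20463995144790], ![17060164289040, 19259187544625, 19330123778613], ![18125316178448, 18194035655217, 19330123778613]]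

/-- The members of a triple in normal form. -/
def tri (b c : ℕ) : Fin 3 → List ℤ := ![dec 8 b, dec 8 c, third (dec 8 b) (dec 8 c)]

/-- The check of the normal forms. -/
def normOk : Bool :=
  (tripleData.all fun d => d.2.2.all fun c => normData.any fun e => e.1 == (d.1, c)) &&
    normData.all fun e => e.2.1.all (fun r => okRoot 8 [L0] (dec 8 r)) &&
      ((List.finRange 3).map e.2.2.2).Nodup &&
      (List.finRange 3).all fun i =>
        e.2.1.foldl (fun v r => lrefl (dec 8 r) v) (tri e.1.1 e.1.2 (e.2.2.2 i)) == dec 8 (repsL e.2.2.1 i)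

set_option maxRecDepth 100000 in
theorem normOk_eq : normOk = true := by decide +kernel

/-- The representatives are triples of exceptional classes with the prescribed sum. -/
def repsOk : Bool :=
  (List.finRange 4).all fun j => (List.finRange 3).all (fun i => lExc 8 (dec 8 (repsL j i))) &&
    third (dec 8 (repsL j 0)) (dec 8 (repsL j 1)) == dec 8 (repsL j 2)

theorem repsOk_eq : repsOk = true := by decide +kernel

/-- The invariant of a representative: its intersection numbers with `L0`, sorted. -/
def sig (j : Fin 4) : ℤ × ℤ :=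
  (((List.finRange 3).map fun i => lform (dec 8 L0) (dec 8 (repsL j i))).sum,
    ((List.finRange 3).map fun i => lform (dec 8 L0) (dec 8 (repsL j i)) ^ 2).sum)

theorem sig_injective : Function.Injective sig := by decide +kernel

theorem vec_third (b c : List ℤ) (hb : b.length = 9) (hc : c.length = 9) :
    vec 8 b + vec 8 c + vec 8 (third b c) = vec 8 (dec 8 L0) - 2 • canon 8 ∧ (third b c).length = 9 := by
  match b, c, hb, hc with
  | [b0, b1, b2, b3, b4, b5, b6, b7, b8], [c0, c1, c2, c3, c4, c5, c6, c7, c8], _, _ =>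
    refine ⟨?_, rfl⟩
    have hK : canon 8 = ![-3, -1, -1, -1, -1, -1, -1, -1, -1] := by decide
    funext i
    rw [hK]
    fin_cases i <;> simp [vec, third, dec, L0, lcanon, List.range_succ] <;> ring

theorem word_equiv : ∀ w : List ℕ, w.all (fun r => okRoot 8 [L0] (dec 8 r)) = true →
    ∃ g : DP 8 ≃ₗ[ℤ] DP 8, IsWeyl g ∧ g (vec 8 (dec 8 L0)) = vec 8 (dec 8 L0) ∧
      ∀ v : List ℤ, v.length = 9 → g (vec 8 v) = vec 8 (w.foldl (fun v r => lrefl (dec 8 r) v) v)
  | [], _ => ⟨LinearEquiv.refl ℤ _, isWeyl_one, rfl, fun _ _ => rfl⟩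
  | r :: w, h => by
    simp only [List.all_cons, Bool.and_eq_true] at h
    obtain ⟨hr', hw⟩ := h
    obtain ⟨g, hg, hgL, hgv⟩ := word_equiv w hw
    simp only [okRoot, Bool.and_eq_true, beq_iff_eq, List.all_cons, List.all_nil, and_true] at hr'
    obtain ⟨⟨h1, h2⟩, h3⟩ := hr'
    have l1 := length_dec 8 r
    have hr : form (vec 8 (dec 8 r)) (vec 8 (dec 8 r)) = -2 := by rw [lform_eq l1 l1, h1]
    have hK : form (canon 8) (vec 8 (dec 8 r)) = 0 := by rw [← vec_lcanon, lform_eq (length_lcanon 8) l1, h2]
    refine ⟨(refl _ hr).trans g, isWeyl_trans (isWeyl_refl _ hr hK) hg, ?_, fun v hv => ?_⟩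
    · rw [LinearEquiv.trans_apply, refl_apply, lform_eq (length_dec 8 L0) l1, h3, zero_smul, add_zero, hgL]
    · rw [LinearEquiv.trans_apply, refl_apply, refl_vec l1 hv,
        hgv _ (by simp [lrefl, List.length_zipWith, hv, length_dec]), List.foldl_cons]

/-- Every triple can be brought to one of the four representatives. -/
theorem triple_normalise (L : DP 8) (hL : IsExc L) (t : Fin 3 → DP 8) (ht : ∀ i, IsExc (t i))
    (hsum : t 0 + t 1 + t 2 = L - 2 • canon 8) :
    ∃ (g : DP 8 ≃ₗ[ℤ] DP 8) (j : Fin 4) (σ : Equiv.Perm (Fin 3)),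
      IsWeyl g ∧ g L = vec 8 (dec 8 L0) ∧ ∀ i, g (t (σ i)) = vec 8 (dec 8 (repsL j i)) := by
  classical
  obtain ⟨g, hg, hgL, b, hb, hgb, -⟩ := exc_normalise L (t 0) hL (ht 0)
  rw [← tripleData_fst, List.mem_map] at hb
  obtain ⟨d, hd, rfl⟩ := hb
  obtain ⟨h1, h2⟩ : ok 8 [L0, d.1] d.2.2 d.2.1 = true ∧ _ :=
    Bool.and_eq_true_iff.mp (List.all_eq_true.mp tripleOk_eq d hd)
  have he1 : IsExc (g (t 1)) := ⟨by rw [hg.1]; exact (ht 1).1, by rw [← hg.2, hg.1]; exact (ht 1).2⟩
  have he2 : IsExc (g (t 2)) := ⟨by rw [hg.1]; exact (ht 2).1, by rw [← hg.2, hg.1]; exact (ht 2).2⟩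
  obtain ⟨n, hn, hne⟩ := mem_excStab _ he1
  have hs := congrArg g hsum
  rw [map_add, map_add, map_sub, map_nsmul, hg.2, hgL, hgb, ← hne] at hs
  obtain ⟨hv, hlen⟩ := vec_third (dec 8 d.1) (dec 8 n.1) (length_dec _ _) (length_dec _ _)
  have ht2 : g (t 2) = vec 8 (third (dec 8 d.1) (dec 8 n.1)) := add_left_cancel (hs.trans hv.symm)
  have h3 := List.all_eq_true.mp h2 n hn
  rw [show lExc 8 (third (dec 8 d.1) (dec 8 n.1)) = true from (lExc_iff hlen).mpr (ht2 ▸ he2)] at h3
  obtain ⟨n', hn'⟩ := Option.isSome_iff_exists.mp (by simpa using h3)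
  obtain ⟨hn'm, hn'1⟩ := Tree.find_mem _ _ _ hn'
  obtain ⟨k, hk, hkf, c, hc, hkc⟩ := reach h1 n' hn'm
  rw [hn'1] at hkc
  have hN := normOk_eq
  simp only [normOk, Bool.and_eq_true, List.all_eq_true, List.any_eq_true, beq_iff_eq, decide_eq_true_eq] at hN
  obtain ⟨hN1, hN2⟩ := hN
  obtain ⟨e, he, heq⟩ := hN1 d hd c hc
  obtain ⟨⟨hw, hnd⟩, himg⟩ := hN2 e he
  obtain ⟨q, hq, hqL, hqv⟩ := word_equiv e.2.1 (List.all_eq_true.mpr hw)
  have hkL := hkf L0 (List.mem_cons_self ..)
  have hkb := hkf d.1 (List.mem_cons_of_mem _ (List.mem_cons_self ..))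
  have htri : ∀ i, k (g (t i)) = vec 8 (tri d.1 c i) ∧ (tri d.1 c i).length = 9 := by
    obtain ⟨hv', hlen'⟩ := vec_third (dec 8 d.1) (dec 8 c) (length_dec _ _) (length_dec _ _)
    intro i
    fin_cases i
    · exact ⟨(congrArg k hgb).trans hkb, length_dec _ _⟩
    · exact ⟨(congrArg k hne.symm).trans hkc, length_dec _ _⟩
    · refine ⟨?_, hlen'⟩
      have h5 := congrArg k hv
      rw [map_add, map_add, map_sub, map_nsmul, hk.2, hkL, hkb, hkc, ← ht2] at h5
      exact add_left_cancel (h5.trans hv'.symm)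
  have hinj : Function.Injective e.2.2.2 := fun a b hab =>
    List.inj_on_of_nodup_map hnd (List.mem_finRange a) (List.mem_finRange b) hab
  refine ⟨(g.trans k).trans q, e.2.2.1, Equiv.ofBijective _ (Finite.injective_iff_bijective.mp hinj),
    isWeyl_trans (isWeyl_trans hg hk) hq, ?_, fun i => ?_⟩
  · rw [LinearEquiv.trans_apply, LinearEquiv.trans_apply, hgL, hkL, hqL]
  · obtain ⟨e1, e2⟩ := htri (e.2.2.2 i)
    rw [LinearEquiv.trans_apply, LinearEquiv.trans_apply, Equiv.ofBijective_apply, e1, hqv _ e2]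
    have := himg i (List.mem_finRange i)
    rw [heq] at this
    exact congrArg (vec 8) this

end WeylDPLib
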