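import Groth.Agent.ConicLib.Basic
import Mathlib.LinearAlgebra.Pi
import Mathlib.Tactic.Module
import Mathlib.Tactic.Abel

/-!
# Certified orbit computations for the Weyl group of a del Pezzo lattice

Lattice vectors are encoded as natural numbers; an orbit is certified by a search tree in which
every node records a root whose reflection leads to a node of smaller depth.
-/

set_option autoImplicit false

open W4c3severiratdp

namespace WeylDPLib

theorem form_comm {δ : ℕ} (v w : DP δ) : form v w = form w v := by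
  simp only [form, mul_comm]

theorem form_add_smul_left {δ : ℕ} (v r w : DP δ) (c : ℤ) :
    form (v + c • r) w = form v w + c * form r w := by
  simp only [form, Pi.add_apply, Pi.smul_apply, smul_eq_mul, add_mul, Finset.sum_add_distrib, mul_assoc,
    ← Finset.mul_sum]
  ring

theorem form_add_smul_right {δ : ℕ} (v w r : DP δ) (c : ℤ) :
    form v (w + c • r) = form v w + c * form v r := by
  rw [form_comm, form_add_smul_left, form_comm w, form_comm r]

/-- The reflection in a root as a linear map. -/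
def reflLin {δ : ℕ} (r : DP δ) : DP δ →ₗ[ℤ] DP δ where
  toFun v := v + form v r • r
  map_add' v w := by
    have : form (v + w) r = form v r + form w r := by
      simpa using form_add_smul_left v w r 1
    rw [this, add_smul]
    abel
  map_smul' c v := by
    have : form (c • v) r = c * form v r := by
      have h := form_add_smul_left (0 : DP δ) v r c
      simpa [form] using h
    rw [RingHom.id_apply, this, smul_add, mul_smul]

theorem reflLin_reflLin {δ : ℕ} (r : DP δ) (hr : form r r = -2) (v : DP δ) :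
    reflLin r (reflLin r v) = v := by
  show v + form v r • r + form (v + form v r • r) r • r = v
  rw [form_add_smul_left, hr]
  module

/-- The reflection in a root. -/
def refl {δ : ℕ} (r : DP δ) (hr : form r r = -2) : DP δ ≃ₗ[ℤ] DP δ :=
  LinearEquiv.ofLinear (reflLin r) (reflLin r) (LinearMap.ext (reflLin_reflLin r hr))
    (LinearMap.ext (reflLin_reflLin r hr))

theorem refl_apply {δ : ℕ} (r : DP δ) (hr : form r r = -2) (v : DP δ) :
    refl r hr v = v + form v r • r := rfl

theorem isWeyl_refl {δ : ℕ} (r : DP δ) (hr : form r r = -2) (hK : form (canon δ) r = 0) :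
    IsWeyl (refl r hr) := by
  refine ⟨fun v w => ?_, by rw [refl_apply, hK, zero_smul, add_zero]⟩
  rw [refl_apply, refl_apply, form_add_smul_left, form_add_smul_right, form_add_smul_right, hr,
    form_comm r w]
  ring

theorem isWeyl_one {δ : ℕ} : IsWeyl (LinearEquiv.refl ℤ (DP δ)) := ⟨fun _ _ => rfl, rfl⟩

theorem isWeyl_trans {δ : ℕ} {g h : DP δ ≃ₗ[ℤ] DP δ} (hg : IsWeyl g) (hh : IsWeyl h) : IsWeyl (g.trans h) :=
  ⟨fun v w => by rw [LinearEquiv.trans_apply, LinearEquiv.trans_apply, hh.1, hg.1],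
    by rw [LinearEquiv.trans_apply, hg.2, hh.2]⟩

theorem isWeyl_symm {δ : ℕ} {g : DP δ ≃ₗ[ℤ] DP δ} (hg : IsWeyl g) : IsWeyl g.symm :=
  ⟨fun v w => by rw [← hg.1 (g.symm v) (g.symm w), g.apply_symm_apply, g.apply_symm_apply],
    by rw [LinearEquiv.symm_apply_eq, hg.2]⟩

/-- The vector with a given code: digits in base `32`, shifted by `16`. -/
def dec (δ : ℕ) (c : ℕ) : List ℤ :=
  (List.range (δ + 1)).map fun i => ((c / 32 ^ i % 32 : ℕ) : ℤ) - 16

/-- The code of a vector. -/
def enc : List ℤ → ℕ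
  | [] => 0
  | a :: l => (a + 16).toNat + 32 * enc l

/-- The lattice vector of a list. -/
def vec (δ : ℕ) (l : List ℤ) : DP δ := fun i => l.getD i.1 0

/-- The form on lists. -/
def lform : List ℤ → List ℤ → ℤ
  | a :: v, b :: w => a * b - (List.zipWith (· * ·) v w).sum
  | _, _ => 0

/-- The reflection on lists. -/
def lrefl (r v : List ℤ) : List ℤ := List.zipWith (fun a b => a + lform v r * b) v r

/-- The canonical class as a list. -/
def lcanon (δ : ℕ) : List ℤ := -3 :: List.replicate δ (-1)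

theorem sum_getD : ∀ (δ : ℕ) (v w : List ℤ), v.length = δ → w.length = δ →
    ∑ i : Fin δ, v.getD i.1 0 * w.getD i.1 0 = (List.zipWith (· * ·) v w).sum
  | 0, v, w, hv, hw => by
    rw [List.length_eq_zero_iff] at hv hw
    subst hv; subst hw
    simp
  | δ + 1, [], w, hv, _ => absurd hv (by simp)
  | δ + 1, a :: v, [], _, hw => absurd hw (by simp)
  | δ + 1, a :: v, b :: w, hv, hw => by
    rw [Fin.sum_univ_succ, List.zipWith_cons_cons, List.sum_cons,
      ← sum_getD δ v w (by simpa using hv) (by simpa using hw)]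
    rfl

theorem lform_eq {δ : ℕ} {v w : List ℤ} (hv : v.length = δ + 1) (hw : w.length = δ + 1) :
    form (vec δ v) (vec δ w) = lform v w := by
  match v, w, hv, hw with
  | a :: v, b :: w, hv, hw =>
    simp only [lform, form, ← sum_getD δ v w (by simpa using hv) (by simpa using hw)]
    rfl

theorem length_dec (δ c : ℕ) : (dec δ c).length = δ + 1 := by simp [dec]

theorem length_lcanon (δ : ℕ) : (lcanon δ).length = δ + 1 := by simp [lcanon]

theorem vec_lcanon (δ : ℕ) : vec δ (lcanon δ) = canon δ := by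
  funext i
  refine Fin.cases rfl (fun j => ?_) i
  simp [vec, lcanon, canon, List.getD_eq_getElem?_getD, List.getElem?_replicate, j.2]

theorem refl_vec {δ : ℕ} {r v : List ℤ} (hr : r.length = δ + 1) (hv : v.length = δ + 1) :
    vec δ v + form (vec δ v) (vec δ r) • vec δ r = vec δ (lrefl r v) := by
  funext i
  rw [lform_eq hv hr]
  have hi : i.1 < v.length := by omega
  have hi' : i.1 < r.length := by omega
  simp [vec, lrefl, List.getD_eq_getElem?_getD, List.getElem?_zipWith, List.getElem?_eq_getElem hi,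
    List.getElem?_eq_getElem hi']

theorem vec_injective {δ : ℕ} {v w : List ℤ} (hv : v.length = δ + 1) (hw : w.length = δ + 1)
    (h : vec δ v = vec δ w) : v = w := by
  refine List.ext_getElem (hv.trans hw.symm) fun i h1 h2 => ?_
  have := congrFun h ⟨i, hv ▸ h1⟩
  simpa [vec, List.getD_eq_getElem?_getD, List.getElem?_eq_getElem h1, List.getElem?_eq_getElem h2] using this

/-- Search trees of nodes `(code, parent, root, depth)`. -/
inductive Tree
  | lf
  | nd (l : Tree) (code parent root depth : ℕ) (r : Tree)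

/-- The nodes of a tree. -/
def Tree.toList : Tree → List (ℕ × ℕ × ℕ × ℕ)
  | .lf => []
  | .nd l c p r d t => l.toList ++ (c, p, r, d) :: t.toList

/-- Search. -/
def Tree.find : Tree → ℕ → Option (ℕ × ℕ × ℕ × ℕ)
  | .lf, _ => none
  | .nd l c p r d t, x => if x < c then l.find x else if c < x then t.find x else some (c, p, r, d)

theorem Tree.find_mem : ∀ (t : Tree) (x : ℕ) (n : ℕ × ℕ × ℕ × ℕ), t.find x = some n → n ∈ t.toList ∧ n.1 = x
  | .lf, x, n, h => by simp [Tree.find] at h
  | .nd l c p r d t, x, n, h => by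
    simp only [Tree.find] at h
    split_ifs at h with h1 h2
    · exact ⟨List.mem_append_left _ (find_mem l x n h).1, (find_mem l x n h).2⟩
    · exact ⟨List.mem_append_right _ (List.mem_cons_of_mem _ (find_mem t x n h).1), (find_mem t x n h).2⟩
    · obtain rfl : (c, p, r, d) = n := Option.some.inj h
      exact ⟨List.mem_append_right _ (List.mem_cons_self ..), by show c = x; omega⟩

/-- A root orthogonal to the fixed vectors. -/
def okRoot (δ : ℕ) (fixed : List ℕ) (r : List ℤ) : Bool :=
  lform r r == -2 && lform (lcanon δ) r == 0 && fixed.all fun f => lform (dec δ f) r == 0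

/-- The check at a node. -/
def okNode (δ : ℕ) (fixed bases : List ℕ) (T : Tree) : ℕ × ℕ × ℕ × ℕ → Bool
  | (c, _, _, 0) => bases.contains c
  | (c, p, r, d + 1) =>
    okRoot δ fixed (dec δ r) && lrefl (dec δ r) (dec δ c) == dec δ p &&
      (match T.find p with
        | none => false
        | some n => decide (n.2.2.2 ≤ d))

/-- The certificate. -/
def ok (δ : ℕ) (fixed bases : List ℕ) (T : Tree) : Bool :=
  T.toList.all (okNode δ fixed bases T)

theorem reach {δ : ℕ} {fixed bases : List ℕ} {T : Tree} (h : ok δ fixed bases T = true) :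
    ∀ n ∈ T.toList, ∃ g : DP δ ≃ₗ[ℤ] DP δ, IsWeyl g ∧
      (∀ f ∈ fixed, g (vec δ (dec δ f)) = vec δ (dec δ f)) ∧
      ∃ b ∈ bases, g (vec δ (dec δ n.1)) = vec δ (dec δ b) := by
  suffices ∀ (d : ℕ), ∀ n ∈ T.toList, n.2.2.2 ≤ d → ∃ g : DP δ ≃ₗ[ℤ] DP δ, IsWeyl g ∧
      (∀ f ∈ fixed, g (vec δ (dec δ f)) = vec δ (dec δ f)) ∧
      ∃ b ∈ bases, g (vec δ (dec δ n.1)) = vec δ (dec δ b) from fun n hn => this _ n hn le_rfl
  intro d
  induction d with
  | zero =>
    rintro ⟨c, p, r, d'⟩ hn hd
    obtain rfl : d' = 0 := by simpa using hd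
    have := List.all_eq_true.mp h _ hn
    exact ⟨LinearEquiv.refl ℤ _, isWeyl_one, fun _ _ => rfl, c, by simpa [okNode] using this, rfl⟩
  | succ d ih =>
    rintro ⟨c, p, r, d'⟩ hn hd
    have h' := List.all_eq_true.mp h _ hn
    match d', hd with
    | 0, _ => exact ⟨LinearEquiv.refl ℤ _, isWeyl_one, fun _ _ => rfl, c, by simpa [okNode] using h', rfl⟩
    | e + 1, hd =>
      simp only [okNode, okRoot, Bool.and_eq_true, beq_iff_eq, List.all_eq_true] at h'
      obtain ⟨⟨⟨⟨h1, h2⟩, h3⟩, h4⟩, h5⟩ := h'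
      have l1 := length_dec δ r
      have hr : form (vec δ (dec δ r)) (vec δ (dec δ r)) = -2 := by rw [lform_eq l1 l1, h1]
      have hK : form (canon δ) (vec δ (dec δ r)) = 0 := by
        rw [← vec_lcanon, lform_eq (length_lcanon δ) l1, h2]
      split at h5
      · simp at h5
      next n hf =>
        obtain ⟨hnm, hn1⟩ := T.find_mem p n hf
        have hle : n.2.2.2 ≤ e := by simpa using h5
        obtain ⟨g, hg, hgf, b, hb, hgb⟩ := ih n hnm (by simp only at hd; omega)
        refine ⟨(refl _ hr).trans g, isWeyl_trans (isWeyl_refl _ hr hK) hg, fun f hf' => ?_, b, hb, ?_⟩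
        · rw [LinearEquiv.trans_apply, refl_apply, lform_eq (length_dec δ f) l1, h3 f hf', zero_smul,
            add_zero, hgf f hf']
        · rw [LinearEquiv.trans_apply, refl_apply, refl_vec l1 (length_dec δ c), h4, ← hn1, hgb]

/-- The codes of a certificate list distinct vectors in `P`. -/
def enum (δ : ℕ) (P : List ℤ → Bool) (T : Tree) : Bool :=
  (T.toList.map fun n => n.1).all (fun c => enc (dec δ c) == c && P (dec δ c)) &&
    decide ((T.toList.map fun n => n.1).IsChain (· < ·))

theorem mem_of_enum {δ : ℕ} {P : List ℤ → Bool} {T : Tree} (h : enum δ P T = true) (S : Set (DP δ))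
    (hP : ∀ c, P (dec δ c) = true → vec δ (dec δ c) ∈ S) (hfin : S.Finite)
    (hcard : S.ncard = T.toList.length) :
    ∀ v ∈ S, ∃ n ∈ T.toList, vec δ (dec δ n.1) = v := by
  classical
  simp only [enum, Bool.and_eq_true, List.all_eq_true, decide_eq_true_eq, beq_iff_eq] at h
  obtain ⟨h1, h2⟩ := h
  let cs := T.toList.map fun n => n.1
  let f := fun c => vec δ (dec δ c)
  have hnd : cs.Nodup := (List.isChain_iff_pairwise.mp h2).imp fun h => Nat.ne_of_lt h
  have hinj : ∀ x ∈ cs, ∀ y ∈ cs, f x = f y → x = y := fun x hx y hy hxy => by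
    rw [← (h1 x hx).1, ← (h1 y hy).1, vec_injective (length_dec δ x) (length_dec δ y) hxy]
  have hsub : ((cs.map f).toFinset : Set (DP δ)) ⊆ S := fun v hv => by
    obtain ⟨c, hc, rfl⟩ := List.mem_map.mp (List.mem_toFinset.mp (Finset.mem_coe.mp hv))
    exact hP c (h1 c hc).2
  have heq := Set.eq_of_subset_of_ncard_le hsub (by
    rw [hcard, Set.ncard_coe_finset, List.toFinset_card_of_nodup (hnd.map_on hinj)]
    simp [cs]) hfin
  intro v hv
  rw [← heq] at hv
  obtain ⟨c, hc, rfl⟩ := List.mem_map.mp (List.mem_toFinset.mp (Finset.mem_coe.mp hv))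
  obtain ⟨n, hn, rfl⟩ := List.mem_map.mp hc
  exact ⟨n, hn, rfl⟩

/-- The conic test on lists. -/
def lConic (δ : ℕ) (v : List ℤ) : Bool := lform v v == 0 && lform (lcanon δ) v == -2

/-- The exceptional test on lists. -/
def lExc (δ : ℕ) (v : List ℤ) : Bool := lform v v == -1 && lform (lcanon δ) v == -1

theorem lConic_iff {δ : ℕ} {v : List ℤ} (hv : v.length = δ + 1) : lConic δ v = true ↔ IsConic (vec δ v) := by
  rw [IsConic, ← vec_lcanon, lform_eq hv hv, lform_eq (length_lcanon δ) hv]
  simp [lConic]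

theorem lExc_iff {δ : ℕ} {v : List ℤ} (hv : v.length = δ + 1) : lExc δ v = true ↔ IsExc (vec δ v) := by
  rw [IsExc, ← vec_lcanon, lform_eq hv hv, lform_eq (length_lcanon δ) hv]
  simp [lExc]

theorem isExc_iff {δ : ℕ} (v : DP δ) :
    IsExc v ↔ Fin.tail v ∈ ConicLib.sol δ (3 * v 0 - 1) (v 0 ^ 2 + 1) := by
  simp only [IsExc, ConicLib.form_self, ConicLib.form_canon, ConicLib.sol, Set.mem_ofPred_eq, Fin.tail]
  constructor <;> rintro ⟨h1, h2⟩ <;> constructor <;> linarith

theorem bounds_exc {δ : ℕ} (hδ : δ ≤ 8) {v : DP δ} (h : IsExc v) : 0 ≤ v 0 ∧ v 0 ≤ 7 := by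
  obtain ⟨h1, h2⟩ := (isExc_iff v).mp h
  have h3 := ConicLib.sum_sq_le (Fin.tail v)
  rw [h1, h2] at h3
  have : (δ : ℤ) ≤ 8 := by exact_mod_cast hδ
  have h4 : -(3 * v 0 - 1) ≤ v 0 ^ 2 + 1 := by
    rw [← h1, ← h2, ← Finset.sum_neg_distrib]
    refine Finset.sum_le_sum fun i _ => ?_
    have := Int.le_self_sq (-Fin.tail v i)
    rwa [neg_sq] at this
  constructor <;> nlinarith [mul_le_mul_of_nonneg_right this (add_nonneg (sq_nonneg (v 0)) (show (0 : ℤ) ≤ 1 by norm_num))]

theorem exc_eq_biUnion (δ : ℕ) (hδ : δ ≤ 8) :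
    {v : DP δ | IsExc v} = ⋃ n ∈ (List.range 8).toFinset,
      Fin.cons (n : ℤ) '' ConicLib.sol δ (3 * (n : ℤ) - 1) ((n : ℤ) ^ 2 + 1) := by
  ext v
  simp only [Set.mem_iUnion, List.mem_toFinset, exists_prop, List.mem_range, Set.mem_ofPred_eq]
  constructor
  · intro h
    obtain ⟨h1, h2⟩ := bounds_exc hδ h
    refine ⟨(v 0).toNat, by omega, Fin.tail v, ?_, ?_⟩
    · rw [show ((v 0).toNat : ℤ) = v 0 by omega]
      exact (isExc_iff v).mp h
    · rw [show ((v 0).toNat : ℤ) = v 0 by omega]
      exact Fin.cons_self_tail v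
  · rintro ⟨n, -, d, hd, rfl⟩
    rw [isExc_iff]
    simpa using hd

theorem finite_exc (δ : ℕ) (hδ : δ ≤ 8) : {v : DP δ | IsExc v}.Finite := by
  rw [exc_eq_biUnion δ hδ]
  exact Set.Finite.biUnion (Finset.finite_toSet _) fun n _ => (ConicLib.finite_sol δ _ _).image _

/-- Exceptional classes are counted by `cnt`. -/
theorem ncard_exc (δ : ℕ) (hδ : δ ≤ 8) :
    {v : DP δ | IsExc v}.ncard =
      ((List.range 8).map fun n : ℕ => ConicLib.cnt δ (3 * (n : ℤ) - 1) ((n : ℤ) ^ 2 + 1)).sum := by
  classical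
  rw [exc_eq_biUnion δ hδ, ConicLib.ncard_biUnion_finset _ _
    (fun n _ => (ConicLib.finite_sol δ _ _).image _) (fun a _ b _ hab => by
      refine Set.disjoint_left.mpr ?_
      rintro _ ⟨d, -, rfl⟩ ⟨e, -, he⟩
      have := congrFun he 0
      simp at this
      exact hab this.symm), List.sum_toFinset _ List.nodup_range]
  refine congrArg List.sum (List.map_congr_left fun n hn => ?_)
  rw [Set.ncard_image_of_injective _ (Fin.cons_right_injective (α := fun _ => ℤ) _)]
  refine ConicLib.ncard_sol _ _ _ ?_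
  have := List.mem_range.mp hn
  nlinarith

theorem finite_conic (δ : ℕ) (hδ : δ ≤ 8) : {v : DP δ | IsConic v}.Finite := by
  have e : {v : DP δ | IsConic v} ⊆ ⋃ n ∈ (Finset.range 12),
      Fin.cons (n : ℤ) '' ConicLib.sol δ (3 * (n : ℤ) - 2) ((n : ℤ) ^ 2) := by
    intro v h
    obtain ⟨h1, h2⟩ := ConicLib.bounds hδ h
    simp only [Set.mem_iUnion, Finset.mem_range, exists_prop]
    refine ⟨(v 0).toNat, by omega, Fin.tail v, ?_, ?_⟩
    · rw [show ((v 0).toNat : ℤ) = v 0 by omega]
      exact (ConicLib.isConic_iff v).mp h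
    · rw [show ((v 0).toNat : ℤ) = v 0 by omega]
      exact Fin.cons_self_tail v
  exact (Set.Finite.biUnion (Finset.finite_toSet _) fun n _ => (ConicLib.finite_sol δ _ _).image _).subset e

end WeylDPLib
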